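import Groth.Prelude.Def_Coh
import Groth.Agent.ModShf.Flasque
import Groth.Agent.QCoh.Exact
import Mathlib.Algebra.Homology.DerivedCategory.Ext.ExactSequences
import Mathlib.CategoryTheory.Preadditive.Biproducts

/-!
# Cohomology of O_X-modules over a ring: linear maps, long exact sequence, finite sums
-/

universe u

open CategoryTheory CategoryTheory.Limits AlgebraicGeometry Opposite

noncomputable section

namespace Groth.Agent.CohLES

variable {X : Scheme.{u}}

/-- Multiplication by a global function commutes with module maps. -/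
theorem map_comp_smulAb {M N : X.Modules} (f : M ⟶ N) (r : Coh.Γtop X) :
    (ModShf.toAbFunctor X).map f ≫ Coh.smulAb N r =
      Coh.smulAb M r ≫ (ModShf.toAbFunctor X).map f := by
  ext U m
  exact ((f.val.app U).hom.map_smul (Coh.resTop X U r) m).symm

variable (A : Type u) [CommRing A] [X.Over (Spec (CommRingCat.of A))]

theorem smul_eq {M : X.Modules} {n : ℕ} (a : A) (x : Coh.HH X M n) :
    a • x = Sheaf.H.map (Coh.smulAb M (Coh.toGlobal (X ↘ Spec (CommRingCat.of A)) a)) n x := rfl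

/-- The linear map on cohomology induced by a map of modules. -/
def mapL {M N : X.Modules} (f : M ⟶ N) (n : ℕ) : Coh.HH X M n →ₗ[A] Coh.HH X N n where
  toFun := Sheaf.H.map ((ModShf.toAbFunctor X).map f) n
  map_add' := map_add _
  map_smul' a x := by
    dsimp only [RingHom.id_apply]
    rw [smul_eq, smul_eq, ← Sheaf.H.map_comp_apply, ← Sheaf.H.map_comp_apply, map_comp_smulAb]

theorem mapL_apply {M N : X.Modules} (f : M ⟶ N) (n : ℕ) (x : Coh.HH X M n) :
    mapL A f n x = Sheaf.H.map ((ModShf.toAbFunctor X).map f) n x := rfl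

theorem mapL_comp {M N P : X.Modules} (f : M ⟶ N) (g : N ⟶ P) (n : ℕ) :
    mapL A (f ≫ g) n = (mapL A g n).comp (mapL A f n) :=
  LinearMap.ext fun x => by
    rw [LinearMap.comp_apply, mapL_apply, mapL_apply, mapL_apply, Functor.map_comp,
      Sheaf.H.map_comp_apply]

theorem mapL_id (M : X.Modules) (n : ℕ) : mapL A (𝟙 M) n = LinearMap.id :=
  LinearMap.ext fun x => by
    rw [mapL_apply, CategoryTheory.Functor.map_id, Sheaf.H.map_id_apply]
    rfl

theorem mapL_add {M N : X.Modules} (f g : M ⟶ N) (n : ℕ) :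
    mapL A (f + g) n = mapL A f n + mapL A g n :=
  LinearMap.ext fun x => by
    rw [LinearMap.add_apply, mapL_apply, mapL_apply, mapL_apply, Functor.map_add,
      Sheaf.H.map_add_apply]

/-- `mapL` as an additive map in the morphism. -/
def mapLHom (M N : X.Modules) (n : ℕ) : (M ⟶ N) →+ (Coh.HH X M n →ₗ[A] Coh.HH X N n) :=
  AddMonoidHom.mk' (fun f => mapL A f n) fun f g => mapL_add A f g n

theorem mapL_zero (M N : X.Modules) (n : ℕ) : mapL A (0 : M ⟶ N) n = 0 :=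
  map_zero (mapLHom A M N n)

theorem mapL_sum {M N : X.Modules} {ι : Type*} (s : Finset ι) (f : ι → (M ⟶ N)) (n : ℕ) :
    mapL A (∑ i ∈ s, f i) n = ∑ i ∈ s, mapL A (f i) n :=
  map_sum (mapLHom A M N n) f s

theorem mapL_iso_apply {M N : X.Modules} (e : M ≅ N) (n : ℕ) (x : Coh.HH X M n) :
    mapL A e.inv n (mapL A e.hom n x) = x := by
  rw [← LinearMap.comp_apply, ← mapL_comp, e.hom_inv_id, mapL_id]
  rfl

/-- Isomorphic modules have isomorphic cohomology. -/
def mapEquiv {M N : X.Modules} (e : M ≅ N) (n : ℕ) : Coh.HH X M n ≃ₗ[A] Coh.HH X N n :=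
  LinearEquiv.ofLinearMap (mapL A e.hom n) (mapL A e.inv n)
    (LinearMap.ext fun x => mapL_iso_apply A e.symm n x)
    (LinearMap.ext fun x => mapL_iso_apply A e n x)

namespace Ab

variable {T : ShortComplex (Sheaf (Opens.grothendieckTopology X) AddCommGrpCat.{u})}
  (hT : T.ShortExact) {n₀ n₁ : ℕ}

/-- The connecting homomorphism of abelian sheaves. -/
def δ (n₀ n₁ : ℕ) (h : n₀ + 1 = n₁) : Sheaf.H T.X₃ n₀ →+ Sheaf.H T.X₁ n₁ :=
  hT.extClass.postcomp _ h

omit [X.Over (Spec (CommRingCat.of A))] in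
theorem δ_naturality {T' : ShortComplex (Sheaf (Opens.grothendieckTopology X) AddCommGrpCat.{u})}
    (hT' : T'.ShortExact) (φ : T ⟶ T') (h : n₀ + 1 = n₁) (x : Sheaf.H T.X₃ n₀) :
    δ hT' n₀ n₁ h (Sheaf.H.map φ.τ₃ n₀ x) = Sheaf.H.map φ.τ₁ n₁ (δ hT n₀ n₁ h x) := by
  show Abelian.Ext.comp (Abelian.Ext.comp x (Abelian.Ext.mk₀ φ.τ₃) (add_zero n₀)) hT'.extClass h =
    Abelian.Ext.comp (Abelian.Ext.comp x hT.extClass h) (Abelian.Ext.mk₀ φ.τ₁) (add_zero n₁)
  rw [Abelian.Ext.comp_assoc_of_second_deg_zero, Abelian.Ext.comp_assoc_of_third_deg_zero,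
    ShortComplex.ShortExact.extClass_naturality hT hT' φ]

include hT in
theorem exact₂ {n : ℕ} (x : Sheaf.H T.X₂ n) (hx : Sheaf.H.map T.g n x = 0) :
    ∃ y, Sheaf.H.map T.f n y = x :=
  Abelian.Ext.covariant_sequence_exact₂ _ hT x hx

theorem exact₁ (h : n₀ + 1 = n₁) (x : Sheaf.H T.X₁ n₁) (hx : Sheaf.H.map T.f n₁ x = 0) :
    ∃ y, δ hT n₀ n₁ h y = x :=
  Abelian.Ext.covariant_sequence_exact₁ _ hT x hx h

theorem exact₃ (h : n₀ + 1 = n₁) (x : Sheaf.H T.X₃ n₀) (hx : δ hT n₀ n₁ h x = 0) :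
    ∃ y, Sheaf.H.map T.g n₀ y = x :=
  Abelian.Ext.covariant_sequence_exact₃ _ hT x h hx

theorem δ_map (h : n₀ + 1 = n₁) (x : Sheaf.H T.X₂ n₀) :
    δ hT n₀ n₁ h (Sheaf.H.map T.g n₀ x) = 0 :=
  (Abelian.Ext.comp_assoc_of_second_deg_zero x (Abelian.Ext.mk₀ T.g) hT.extClass _).trans
    ((congrArg (fun e => Abelian.Ext.comp x e h) hT.comp_extClass).trans
      (Abelian.Ext.comp_zero ..))

theorem map_δ (h : n₀ + 1 = n₁) (x : Sheaf.H T.X₃ n₀) :
    Sheaf.H.map T.f n₁ (δ hT n₀ n₁ h x) = 0 :=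
  (Abelian.Ext.comp_assoc_of_third_deg_zero x hT.extClass (Abelian.Ext.mk₀ T.f) h).trans
    ((congrArg (fun e => Abelian.Ext.comp x e h) hT.extClass_comp).trans
      (Abelian.Ext.comp_zero ..))

end Ab

section LES

theorem shortExact_map {S : ShortComplex X.Modules} (hS : S.ShortExact) :
    (S.map (ModShf.toAbFunctor X)).ShortExact :=
  hS.map_of_exact (ModShf.toAbFunctor X)

variable {S : ShortComplex X.Modules} (hS : S.ShortExact)

/-- Multiplication by a global function, as an endomorphism of the mapped short complex. -/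
def smulComplex (S : ShortComplex X.Modules) (r : Coh.Γtop X) :
    S.map (ModShf.toAbFunctor X) ⟶ S.map (ModShf.toAbFunctor X) :=
  ShortComplex.Hom.mk (S₁ := S.map (ModShf.toAbFunctor X)) (S₂ := S.map (ModShf.toAbFunctor X))
    (Coh.smulAb S.X₁ r) (Coh.smulAb S.X₂ r) (Coh.smulAb S.X₃ r) (map_comp_smulAb S.f r).symm
    (map_comp_smulAb S.g r).symm

/-- The connecting homomorphism. -/
def δL (n₀ n₁ : ℕ) (h : n₀ + 1 = n₁) : Coh.HH X S.X₃ n₀ →ₗ[A] Coh.HH X S.X₁ n₁ where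
  toFun := Ab.δ (shortExact_map hS) n₀ n₁ h
  map_add' := map_add _
  map_smul' a x :=
    Ab.δ_naturality (shortExact_map hS) (shortExact_map hS)
      (smulComplex S (Coh.toGlobal (X ↘ Spec (CommRingCat.of A)) a)) h x

include hS in
theorem exact₂ {n : ℕ} (x : Coh.HH X S.X₂ n) (hx : mapL A S.g n x = 0) :
    ∃ y, mapL A S.f n y = x :=
  Ab.exact₂ (shortExact_map hS) x hx

theorem exact₁ {n₀ n₁ : ℕ} (h : n₀ + 1 = n₁) (x : Coh.HH X S.X₁ n₁) (hx : mapL A S.f n₁ x = 0) :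
    ∃ y, δL A hS n₀ n₁ h y = x :=
  Ab.exact₁ (shortExact_map hS) h x hx

theorem exact₃ {n₀ n₁ : ℕ} (h : n₀ + 1 = n₁) (x : Coh.HH X S.X₃ n₀)
    (hx : δL A hS n₀ n₁ h x = 0) : ∃ y, mapL A S.g n₀ y = x :=
  Ab.exact₃ (shortExact_map hS) h x hx

theorem δL_mapL {n₀ n₁ : ℕ} (h : n₀ + 1 = n₁) (x : Coh.HH X S.X₂ n₀) :
    δL A hS n₀ n₁ h (mapL A S.g n₀ x) = 0 :=
  Ab.δ_map (shortExact_map hS) h x

theorem mapL_δL {n₀ n₁ : ℕ} (h : n₀ + 1 = n₁) (x : Coh.HH X S.X₃ n₀) :
    mapL A S.f n₁ (δL A hS n₀ n₁ h x) = 0 :=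
  Ab.map_δ (shortExact_map hS) h x

theorem mapL_comp_eq_zero {n : ℕ} (x : Coh.HH X S.X₁ n) : mapL A S.g n (mapL A S.f n x) = 0 := by
  rw [← LinearMap.comp_apply, ← mapL_comp, S.zero, mapL_zero]
  rfl

end LES

section Coproduct

open Classical

variable {κ : Type u} [Finite κ] (M : κ → X.Modules)

theorem sum_π_ι [Fintype κ] : ∑ j, Sigma.π M j ≫ Sigma.ι M j = 𝟙 (∐ M) := by
  classical
  refine Sigma.hom_ext _ _ fun i => ?_
  rw [Preadditive.comp_sum, Category.comp_id, Finset.sum_eq_single i]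
  · rw [Sigma.ι_π_eq_id_assoc]
  · intro j _ hj
    rw [Sigma.ι_π_of_ne_assoc _ (Ne.symm hj), zero_comp]
  · simp

theorem exists_decomp [Fintype κ] (n : ℕ) (x : Coh.HH X (∐ M) n) :
    x = ∑ j, mapL A (Sigma.ι M j) n (mapL A (Sigma.π M j) n x) := by
  conv_lhs => rw [show x = mapL A (𝟙 (∐ M)) n x by rw [mapL_id]; rfl, ← sum_π_ι M, mapL_sum,
    LinearMap.sum_apply]
  exact Finset.sum_congr rfl fun j _ => by rw [mapL_comp, LinearMap.comp_apply]

include A in
theorem subsingleton_coprod (n : ℕ) (h : ∀ j, Subsingleton (Coh.HH X (M j) n)) :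
    Subsingleton (Coh.HH X (∐ M) n) := by
  have := Fintype.ofFinite κ
  refine subsingleton_of_forall_eq 0 fun x => ?_
  rw [exists_decomp A M n x]
  exact Finset.sum_eq_zero fun j _ => by
    rw [(h j).elim (mapL A (Sigma.π M j) n x) 0, map_zero]

theorem finite_coprod (n : ℕ) (h : ∀ j, Module.Finite A (Coh.HH X (M j) n)) :
    Module.Finite A (Coh.HH X (∐ M) n) := by
  have := Fintype.ofFinite κ
  refine Module.Finite.of_surjective (∑ j, (mapL A (Sigma.ι M j) n).comp (LinearMap.proj j) :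
    (Π j, Coh.HH X (M j) n) →ₗ[A] _) fun x => ⟨fun j => mapL A (Sigma.π M j) n x, ?_⟩
  rw [LinearMap.sum_apply]
  exact (exists_decomp A M n x).symm

end Coproduct

end Groth.Agent.CohLES
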